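import Cfsg.Agent.Lib.SporadicB.Fi23Sylow.Data

/-! Finite checks on the action of order 128 on the elementary abelian group of order 2048. -/

set_option autoImplicit false
set_option linter.all false
set_option Elab.async false
set_option maxRecDepth 100000

namespace CfsgLib.SporadicB.Fi23Sylow

open CfsgLib.SporRecognition.CosetCert

/-- The representative acts as an involution or trivially. -/
noncomputable def isI (e : Nat) : Bool :=
  (List.range 11).all fun k => Nat.beq (lin 11 (Eg e) (Eg e k)) (2 ^ k)

/-- Two representatives act commutingly. -/
noncomputable def commE (e f : Nat) : Bool :=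
  (List.range 11).all fun k => Nat.beq (lin 11 (Eg e) (Eg f k)) (lin 11 (Eg f) (Eg e k))

/-- Search for `r` more independent commuting involutions. -/
noncomputable def go : Nat → Nat → List Nat → Bool
  | 0, _, _ => false
  | r + 1, lo, span => invL.all fun e =>
      bif Nat.blt lo e then
        (bif span.contains e then true else
          bif span.all (fun x => Co x e) then go r e (span ++ span.map fun x => tab x e) else true)
      else true

theorem eg_zero : ((List.range 11).all fun k => Nat.beq (Eg 0 k) (2 ^ k)) = true := by decide +kernel

theorem eg_rec : ((List.range 7).all fun i => (List.range (2 ^ i)).all fun e => (List.range 11).all fun k =>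
    Nat.beq (Eg (2 ^ i + e) k) (lin 11 (Eg (2 ^ i)) (Eg e k))) = true := by decide +kernel

theorem eg_distinct : ((List.range 128).all fun e => (List.range e).all fun f =>
    !Nat.beq (Nat.land (Nat.shiftRight eLit (121 * e)) (2 ^ 121 - 1))
      (Nat.land (Nat.shiftRight eLit (121 * f)) (2 ^ 121 - 1))) = true := by decide +kernel

theorem invL_complete : ((List.range 128).all fun e => bif isI e then invL.contains e else true) = true := by
  decide +kernel

theorem com_complete : (invL.all fun e => invL.all fun f =>
    bif commE e f then Co e f && ((List.range 11).all fun k =>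
      Nat.beq (Eg (tab e f) k) (lin 11 (Eg e) (Eg f k))) else true) = true := by decide +kernel

theorem no_five : go 5 0 [0] = true := by decide +kernel

/-- The span of the units, as a complement of the fixed space. -/
noncomputable def compl (us : List Nat) (j : Nat) : Nat := lin us.length (fun i => us.getD i 0) j

theorem one_ok : (oneL.all fun c => Nat.beq c.2.length 4 && c.2.all (fun u => Nat.blt u 2048) &&
    (List.range 16).all fun j => Nat.beq j 0 || !Nat.beq (lin 11 (Eg c.1) (compl c.2 j)) (compl c.2 j)) = true := by
  decide +kernel

theorem one_complete : (invL.all fun e => Nat.beq e 0 || oneL.any fun c => Nat.beq c.1 e) = true := by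
  decide +kernel

theorem two_ok : (twoL.all fun c => Nat.beq c.2.2.length 5 && c.2.2.all (fun u => Nat.blt u 2048) &&
    (List.range 32).all fun j => Nat.beq j 0 || !(Nat.beq (lin 11 (Eg c.1) (compl c.2.2 j)) (compl c.2.2 j) &&
      Nat.beq (lin 11 (Eg c.2.1) (compl c.2.2 j)) (compl c.2.2 j))) = true := by decide +kernel

theorem two_complete : (invL.all fun e => invL.all fun f =>
    bif Nat.blt 0 e && Nat.blt e f && Co e f then twoL.any (fun c => Nat.beq c.1 e && Nat.beq c.2.1 f) else true)
    = true := by decide +kernel

end CfsgLib.SporadicB.Fi23Sylow
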