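import Cfsg.Agent.Lib.SporadicB.Fi23Sylow.Base
import Cfsg.Agent.Lib.SporadicB.Fi23Sylow.Linear

/-! A subgroup of order 2^18 of Fi23 in normal form. -/

set_option autoImplicit false
set_option linter.all false
set_option Elab.async false
set_option maxRecDepth 20000

namespace CfsgLib.SporadicB.Fi23Sylow

open CfsgLib.SporRecognition.CosetCert
open CfsgLib.SporRecognition.Cert
open CfsgLib.SporadicB.Fi23
open Cfsg.Agent.S1688 (R23)

local notation "ev" => evalW (PresentedGroup.of (rels := R23))

/-- The transpositions. -/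
noncomputable def tt (k : Nat) : GG := ev (tW k)

/-- The further generators. -/
noncomputable def ss (i : Nat) : GG := ev (sW i)

/-- An element of the elementary abelian subgroup. -/
noncomputable def AA (k v : Nat) : GG := ev (aW k v)

/-- A coset representative. -/
noncomputable def se (i e : Nat) : GG := ev (seW i e)

theorem land_eq (a b : Nat) : Nat.land a b = a &&& b := rfl

theorem shr_eq (a b : Nat) : Nat.shiftRight a b = a >>> b := rfl

theorem add_eq' (a b : Nat) : Nat.add a b = a + b := rfl

theorem mul_eq' (a b : Nat) : Nat.mul a b = a * b := rfl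

theorem ev_nil : ev [] = 1 := by rw [evalW_eq_prod]; rfl

theorem AA_zero_left (v : Nat) : AA 0 v = 1 := ev_nil

theorem AA_succ (k v : Nat) : AA (k + 1) v = AA k v * (bif v.testBit k then tt k else 1) := by
  rw [AA, aW, evalW_append]
  cases v.testBit k
  · rw [cond_false, cond_false, ev_nil]; rfl
  · rfl

theorem se_succ (i e : Nat) : se (i + 1) e = (bif e.testBit i then ss i else 1) * se i e := by
  rw [se, seW, evalW_append]
  cases e.testBit i
  · rw [cond_false, cond_false, ev_nil]; rfl
  · rfl

theorem se_zero (e : Nat) : se 0 e = 1 := ev_nil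

theorem lin_zero_left (f : Nat → Nat) (v : Nat) : lin 0 f v = 0 := rfl

theorem lin_succ (k : Nat) (f : Nat → Nat) (v : Nat) :
    lin (k + 1) f v = lin k f v ^^^ (bif v.testBit k then f k else 0) := rfl

theorem lin_xor (k : Nat) (f : Nat → Nat) (v w : Nat) : lin k f (v ^^^ w) = lin k f v ^^^ lin k f w := by
  induction k with
  | zero => simp [lin_zero_left]
  | succ k ih =>
    simp only [lin_succ, ih, Nat.testBit_xor]
    cases v.testBit k <;> cases w.testBit k <;> simp [Nat.xor_assoc, Nat.xor_comm, Nat.xor_left_comm]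

theorem lin_lt {k : Nat} {f : Nat → Nat} (hf : ∀ i, i < k → f i < 2048) (v : Nat) : lin k f v < 2048 := by
  induction k with
  | zero => simp [lin_zero_left]
  | succ k ih =>
    rw [lin_succ]
    refine Nat.xor_lt_two_pow (n := 11) (ih fun i hi => hf i (by omega)) ?_
    cases v.testBit k
    · simp
    · exact hf k (by omega)

theorem Eg_lt (e k : Nat) : Eg e k < 2048 := Nat.lt_succ_of_le Nat.and_le_right

theorem tt_sq {k : Nat} (hk : k < 11) : tt k * tt k = 1 := by
  have h := ev_eq_of_eqPts (List.all_eq_true.mp tsq_ok k (List.mem_range.mpr hk))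
  rwa [evalW_append, ev_nil] at h

theorem tt_comm {k l : Nat} (hk : k < 11) (hl : l < 11) : Commute (tt k) (tt l) := by
  have key : ∀ {k l : Nat}, k < 11 → l < k → Commute (tt k) (tt l) := by
    intro k l hk hl
    have h := ev_eq_of_eqPts
      (List.all_eq_true.mp (List.all_eq_true.mp tcomm_ok k (List.mem_range.mpr hk)) l (List.mem_range.mpr hl))
    rwa [evalW_append, evalW_append] at h
  rcases lt_trichotomy l k with h | rfl | h
  · exact key hk h
  · exact Commute.refl _
  · exact (key hl h).symm

theorem tt_comm_AA {k l : Nat} (hk : k ≤ 11) (hl : l < 11) (v : Nat) : Commute (AA k v) (tt l) := by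
  induction k with
  | zero => rw [AA_zero_left]; exact Commute.one_left _
  | succ k ih =>
    rw [AA_succ]
    refine (ih (by omega)).mul_left ?_
    cases v.testBit k
    · exact Commute.one_left _
    · exact tt_comm (by omega) hl

theorem AA_comm {k : Nat} (hk : k ≤ 11) (v w : Nat) : Commute (AA 11 w) (AA k v) := by
  induction k with
  | zero => rw [AA_zero_left]; exact Commute.one_right _
  | succ k ih =>
    rw [AA_succ k v]
    refine (ih (by omega)).mul_right ?_
    cases v.testBit k
    · exact Commute.one_right _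
    · exact tt_comm_AA le_rfl (by omega) w

theorem AA_xor : ∀ k, k ≤ 11 → ∀ v w, AA k (v ^^^ w) = AA k v * AA k w := by
  intro k
  induction k with
  | zero => intro _ v w; simp [AA_zero_left]
  | succ k ih =>
    intro hk v w
    have hc : ∀ x, tt k * AA k x = AA k x * tt k := fun x => (tt_comm_AA (by omega) (by omega) x).eq.symm
    rw [AA_succ, AA_succ, AA_succ, ih (by omega), Nat.testBit_xor]
    cases v.testBit k <;> cases w.testBit k <;>
      simp only [Bool.bne_false, Bool.bne_true, Bool.false_bne, Bool.true_bne, Bool.not_false, Bool.not_true,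
        cond_true, cond_false, mul_one, one_mul]
    · rw [mul_assoc]
    · rw [mul_assoc (AA k v) (tt k), hc, mul_assoc]
    · rw [mul_assoc (AA k v) (tt k), ← mul_assoc (tt k), hc, mul_assoc (AA k w), tt_sq (by omega), mul_one]

theorem AA_at_zero : ∀ k, AA k 0 = 1 := by
  intro k
  induction k with
  | zero => exact AA_zero_left 0
  | succ k ih => rw [AA_succ, ih, Nat.zero_testBit]; simp

theorem AA_sq (v : Nat) : AA 11 v * AA 11 v = 1 := by rw [← AA_xor 11 le_rfl, Nat.xor_self, AA_at_zero]

/-- Conjugation by `x` acts on the transpositions by `f`. -/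
def Acts (x : GG) (f : Nat → Nat) : Prop := ∀ k, k < 11 → x * tt k * x⁻¹ = AA 11 (f k)

theorem Acts.apply {x : GG} {f : Nat → Nat} (h : Acts x f) :
    ∀ k, k ≤ 11 → ∀ v, x * AA k v * x⁻¹ = AA 11 (lin k f v) := by
  intro k
  induction k with
  | zero => intro _ v; rw [AA_zero_left, lin_zero_left, AA_at_zero, mul_one, mul_inv_cancel]
  | succ k ih =>
    intro hk v
    rw [AA_succ, lin_succ, AA_xor 11 le_rfl, ← ih (by omega)]
    cases v.testBit k
    · simp [AA_at_zero]
    · rw [cond_true, cond_true, ← h k (by omega)]
      group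

theorem Acts.comp {x y : GG} {f g : Nat → Nat} (hx : Acts x f) (hy : Acts y g) :
    Acts (x * y) fun k => lin 11 f (g k) := by
  intro k hk
  show x * y * tt k * (x * y)⁻¹ = AA 11 (lin 11 f (g k))
  rw [← hx.apply 11 le_rfl, ← hy k hk]
  group

theorem AA_two_pow {j : Nat} : ∀ k, k ≤ 11 → AA k (2 ^ j) = if j < k then tt j else 1 := by
  intro k
  induction k with
  | zero => intro _; simp [AA_zero_left]
  | succ k ih =>
    intro hk
    rw [AA_succ, ih (by omega)]
    by_cases hj : j = k
    · subst hj
      simp [Nat.testBit_two_pow_self]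
    · rw [Nat.testBit_two_pow_of_ne hj, cond_false, mul_one]
      by_cases h : j < k
      · rw [if_pos h, if_pos (by omega)]
      · rw [if_neg h, if_neg (by omega)]

theorem acts_one : Acts 1 (fun k => 2 ^ k) := fun k hk => by
  rw [AA_two_pow 11 le_rfl, if_pos hk]
  simp

theorem acts_ss {i : Nat} (hi : i < 7) : Acts (ss i) (Eg (2 ^ i)) := fun k hk => by
  have h := ev_eq_of_eqPts
    (List.all_eq_true.mp (List.all_eq_true.mp sconjT_ok i (List.mem_range.mpr hi)) k (List.mem_range.mpr hk))
  rwa [evalW_append, evalW_append, ev_invRev] at h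

theorem acts_se : ∀ i, i ≤ 7 → ∀ e, e < 2 ^ i → Acts (se i e) (Eg e) := by
  intro i
  induction i with
  | zero =>
    intro _ e he
    obtain rfl : e = 0 := by simpa using he
    rw [se_zero]
    intro k hk
    have h := acts_one k hk
    rwa [Nat.eq_of_beq_eq_true (List.all_eq_true.mp eg_zero k (List.mem_range.mpr hk))]
  | succ i ih =>
    intro hi e he
    rw [se_succ]
    by_cases h : e < 2 ^ i
    · rw [Nat.testBit_lt_two_pow h, cond_false, one_mul]
      exact ih (by omega) e h
    · obtain ⟨d, rfl⟩ : ∃ d, e = 2 ^ i + d := ⟨e - 2 ^ i, by omega⟩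
      have hd : d < 2 ^ i := by rw [pow_succ] at he; omega
      have hb : (2 ^ i + d).testBit i = true := by
        rw [Nat.testBit_two_pow_add_eq, Nat.testBit_lt_two_pow hd]; rfl
      have hse : ∀ j, j ≤ i → se j (2 ^ i + d) = se j d := by
        intro j
        induction j with
        | zero => intro _; rw [se_zero, se_zero]
        | succ j ihj =>
          intro hj
          rw [se_succ, se_succ, ihj (by omega), Nat.testBit_two_pow_add_gt (by omega)]
      rw [hb, cond_true, hse i le_rfl]
      intro k hk
      rw [Nat.eq_of_beq_eq_true (List.all_eq_true.mp (List.all_eq_true.mp (List.all_eq_true.mp eg_rec i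
        (List.mem_range.mpr (by omega))) d (List.mem_range.mpr hd)) k (List.mem_range.mpr hk))]
      exact (acts_ss (by omega)).comp (ih (by omega) d hd) k hk

theorem orbit_stable {k : Nat} (hk : k < 11) : ∀ j, j ≤ k → ∀ v, ∀ u : Fin 31671,
    (u : Nat) ∈ orbL.getD k [] → (sigma (AA j v) u : Nat) ∈ orbL.getD k [] := by
  have h := List.all_eq_true.mp orb_ok k (List.mem_range.mpr hk)
  rw [orbOK, Bool.and_eq_true, Bool.and_eq_true] at h
  intro j
  induction j with
  | zero => intro _ v u hu; rw [AA_zero_left, map_one]; exact hu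
  | succ j ih =>
    intro hj v u hu
    rw [AA_succ, map_mul, Equiv.Perm.mul_apply]
    apply ih (by omega)
    cases v.testBit j
    · rw [cond_false, map_one]; exact hu
    · rw [cond_true, tt, sigma_evalW]
      have h2 := List.all_eq_true.mp h.1.1 _ hu
      rw [Bool.and_eq_true] at h2
      exact List.contains_iff_mem.mp (List.all_eq_true.mp h2.2 j (List.mem_range.mpr (by omega)))

theorem AA_eq_one : ∀ k, k ≤ 11 → ∀ v, v < 2 ^ k → AA k v = 1 → v = 0 := by
  intro k
  induction k with
  | zero => intro _ v hv _; simpa using hv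
  | succ k ih =>
    intro hk v hv h1
    rw [AA_succ] at h1
    cases hb : v.testBit k
    · rw [hb, cond_false, mul_one] at h1
      refine ih (by omega) v ?_ h1
      by_contra hc
      obtain ⟨d, rfl⟩ : ∃ d, v = 2 ^ k + d := ⟨v - 2 ^ k, by omega⟩
      rw [pow_succ] at hv
      rw [Nat.testBit_two_pow_add_eq, Nat.testBit_lt_two_pow (by omega : d < 2 ^ k)] at hb
      exact absurd hb (by decide)
    · exfalso
      rw [hb, cond_true] at h1
      have ht : tt k = AA k v := by
        have e : AA k v * AA k v = 1 := by rw [← AA_xor k (by omega), Nat.xor_self, AA_at_zero]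
        exact (eq_inv_of_mul_eq_one_right h1).trans (inv_eq_of_mul_eq_one_left e)
      have h := List.all_eq_true.mp orb_ok k (List.mem_range.mpr (by omega))
      rw [orbOK, Bool.and_eq_true, Bool.and_eq_true] at h
      have hq := List.contains_iff_mem.mp h.2
      have hlt : (orbL.getD k []).headD 0 < 31671 := by
        have h2 := List.all_eq_true.mp h.1.1 _ hq
        rw [Bool.and_eq_true] at h2
        exact Nat.blt_eq.mp h2.1
      have h3 := orbit_stable (by omega : k < 11) k le_rfl v ⟨_, hlt⟩ hq
      rw [← ht, tt, sigma_evalW] at h3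
      have h4 : (orbL.getD k []).contains (trace (wordTabs Fi23X.tabs (tW k)) ((orbL.getD k []).headD 0)) = true :=
        List.contains_iff_mem.mpr h3
      have h5 := h.1.2
      rw [h4] at h5
      exact absurd h5 (by decide)

theorem AA_inj {v w : Nat} (hv : v < 2048) (hw : w < 2048) (h : AA 11 v = AA 11 w) : v = w :=
  Nat.xor_eq_zero_iff.mp
    (AA_eq_one 11 le_rfl _ (Nat.xor_lt_two_pow hv hw) (by rw [AA_xor 11 le_rfl, h, AA_sq]))

theorem Eg_inj {e f : Nat} (he : e < 128) (hf : f < 128) (h : ∀ k, k < 11 → Eg e k = Eg f k) : e = f := by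
  have key : ∀ {e f : Nat}, e < 128 → f < e → (∀ k, k < 11 → Eg e k = Eg f k) → False := by
    intro e f he hf h
    have h1 := List.all_eq_true.mp (List.all_eq_true.mp eg_distinct e (List.mem_range.mpr he)) f
      (List.mem_range.mpr hf)
    rw [Bool.not_eq_true'] at h1
    refine Bool.false_ne_true (h1.symm.trans (Nat.beq_eq.mpr (Nat.eq_of_testBit_eq fun i => ?_)))
    simp only [land_eq, shr_eq, Nat.testBit_and, Nat.testBit_two_pow_sub_one, Nat.testBit_shiftRight]
    by_cases hi : i < 121
    · simp only [hi, decide_true, Bool.and_true]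
      have h2 := congrArg (fun x => x.testBit (i % 11)) (h (i / 11) (by omega))
      simp only [Eg, land_eq, Nat.testBit_and, shr_eq, Nat.testBit_shiftRight,
        add_eq', mul_eq', show (2047 : Nat) = 2 ^ 11 - 1 from rfl, Nat.testBit_two_pow_sub_one,
        show i % 11 < 11 from Nat.mod_lt _ (by norm_num), decide_true, Bool.and_true] at h2
      rwa [show 121 * e + 11 * (i / 11) + i % 11 = 121 * e + i by omega,
        show 121 * f + 11 * (i / 11) + i % 11 = 121 * f + i by omega] at h2
    · simp [hi]
  rcases lt_trichotomy e f with hlt | rfl | hlt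
  · exact (key hf hlt fun k hk => (h k hk).symm).elim
  · rfl
  · exact (key he hlt h).elim

end CfsgLib.SporadicB.Fi23Sylow
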