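import Cfsg.Agent.Lib.SporadicB.Fi23Sylow.Group
import Cfsg.Prelude.Def_Transfer

/-! The elementary abelian subgroup of order 2^11 in a Sylow 2-subgroup of Fi23. -/

set_option autoImplicit false
set_option linter.all false
set_option Elab.async false
set_option maxRecDepth 20000

namespace CfsgLib.SporadicB.Fi23Sylow

open CfsgLib.SporRecognition.CosetCert
open CfsgLib.SporadicB.Fi23
open Cfsg.Agent.S1688 (R23)

local notation "ev" => evalW (PresentedGroup.of (rels := R23))

/-- The elements in normal form at level `i`. -/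
def NF (i : Nat) (x : GG) : Prop := ∃ e v, e < 2 ^ i ∧ v < 2048 ∧ x = se i e * AA 11 v

theorem se_low {i : Nat} : ∀ j, j ≤ i → ∀ d, se j (2 ^ i + d) = se j d := by
  intro j
  induction j with
  | zero => intro _ d; rw [se_zero, se_zero]
  | succ j ihj =>
    intro hj d
    rw [se_succ, se_succ, ihj (by omega), Nat.testBit_two_pow_add_gt (by omega)]

theorem se_succ_low {i e : Nat} (he : e < 2 ^ i) : se (i + 1) e = se i e := by
  rw [se_succ, Nat.testBit_lt_two_pow he, cond_false, one_mul]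

theorem se_succ_high {i d : Nat} (hd : d < 2 ^ i) : se (i + 1) (2 ^ i + d) = ss i * se i d := by
  rw [se_succ, Nat.testBit_two_pow_add_eq, Nat.testBit_lt_two_pow hd, Bool.not_false, cond_true, se_low i le_rfl]

theorem ss_sq {i : Nat} (hi : i < 7) : ss i * ss i = 1 := by
  have h := ev_eq_of_eqPts (List.all_eq_true.mp ssq_ok i (List.mem_range.mpr hi))
  rwa [evalW_append, ev_nil] at h

theorem acts_nf {i : Nat} (hi : i ≤ 7) {e v : Nat} (he : e < 2 ^ i) (hv : v < 2048) :
    Acts (se i e * AA 11 v) (Eg e) := by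
  intro k hk
  have h : AA 11 v * tt k = tt k * AA 11 v := (tt_comm_AA le_rfl hk v).eq
  rw [← acts_se i hi e he k hk,
    show se i e * AA 11 v * tt k * (se i e * AA 11 v)⁻¹ = se i e * (AA 11 v * tt k * (AA 11 v)⁻¹) * (se i e)⁻¹ by
      group, h, mul_inv_cancel_right]

theorem ss_inv {i : Nat} (hi : i < 7) : (ss i)⁻¹ = ss i := inv_eq_of_mul_eq_one_left (ss_sq hi)

theorem conj_low {i j : Nat} (hi : i < 7) (hj : j < i) : NF i (ss i * ss j * (ss i)⁻¹) := by
  have h := List.all_eq_true.mp (List.all_eq_true.mp cj_complete i (List.mem_range.mpr hi)) j (List.mem_range.mpr hj)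
  obtain ⟨c, hc, hc2⟩ := List.any_eq_true.mp h
  simp only [Bool.and_eq_true, Nat.beq_eq] at hc2
  have h3 := List.all_eq_true.mp sconjS_ok c hc
  simp only [Bool.and_eq_true, Nat.blt_eq] at h3
  have h4 := ev_eq_of_eqPts h3.2
  rw [evalW_append, evalW_append, evalW_append, ev_invRev, hc2.1, hc2.2] at h4
  exact ⟨_, _, hc2.1 ▸ h3.1.1, h3.1.2, h4⟩

/-- The subgroup at level `i`. -/
noncomputable def HH (i : Nat) : Subgroup GG :=
  Subgroup.closure ({x | ∃ k, k < 11 ∧ x = tt k} ∪ {x | ∃ j, j < i ∧ x = ss j})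

theorem tt_mem (i : Nat) {k : Nat} (hk : k < 11) : tt k ∈ HH i := Subgroup.subset_closure (Or.inl ⟨k, hk, rfl⟩)

theorem ss_mem {i j : Nat} (hj : j < i) : ss j ∈ HH i := Subgroup.subset_closure (Or.inr ⟨j, hj, rfl⟩)

theorem HH_mono (i : Nat) : HH i ≤ HH (i + 1) :=
  Subgroup.closure_mono (Set.union_subset_union_right _ fun x ⟨j, hj, hx⟩ => ⟨j, by omega, hx⟩)

theorem AA_mem (i : Nat) : ∀ k, k ≤ 11 → ∀ v, AA k v ∈ HH i := by
  intro k
  induction k with
  | zero => intro _ v; rw [AA_zero_left]; exact one_mem _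
  | succ k ih =>
    intro hk v
    rw [AA_succ]
    refine mul_mem (ih (by omega) v) ?_
    cases v.testBit k
    · exact one_mem _
    · exact tt_mem i (by omega)

theorem se_mem : ∀ i e, se i e ∈ HH i := by
  intro i
  induction i with
  | zero => intro e; rw [se_zero]; exact one_mem _
  | succ i ih =>
    intro e
    rw [se_succ]
    refine mul_mem ?_ (HH_mono i (ih e))
    cases e.testBit i
    · exact one_mem _
    · exact ss_mem (Nat.lt_succ_self i)

theorem NF.mem {i : Nat} {x : GG} (h : NF i x) : x ∈ HH i := by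
  obtain ⟨e, v, -, -, rfl⟩ := h
  exact mul_mem (se_mem i e) (AA_mem i 11 le_rfl v)

theorem conj_mem {i : Nat} (hi : i < 7) {x : GG} (hx : x ∈ HH i) : ss i * x * ss i ∈ HH i := by
  induction hx using Subgroup.closure_induction with
  | mem y hy =>
    have hinv := ss_inv hi
    rcases hy with ⟨k, hk, rfl⟩ | ⟨j, hj, rfl⟩
    · have h := acts_ss hi k hk
      rw [hinv] at h
      rw [h]
      exact AA_mem i 11 le_rfl _
    · have h := conj_low hi hj
      rw [hinv] at h
      exact h.mem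
  | one => rw [mul_one, ss_sq hi]; exact one_mem _
  | mul y z _ _ hy hz =>
    have e : ss i * (y * z) * ss i = (ss i * y * ss i) * (ss i * z * ss i) := by
      calc ss i * (y * z) * ss i = ss i * y * ((ss i * ss i) * z) * ss i := by rw [ss_sq hi]; group
        _ = _ := by group
    rw [e]
    exact mul_mem hy hz
  | inv y _ hy =>
    have e : ss i * y⁻¹ * ss i = (ss i * y * ss i)⁻¹ := by rw [mul_inv_rev, mul_inv_rev, ss_inv hi, mul_assoc]
    rw [e]
    exact inv_mem hy

theorem nf_of_mem : ∀ i, i ≤ 7 → ∀ x ∈ HH i, NF i x := by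
  intro i
  induction i with
  | zero =>
    intro _ x hx
    induction hx using Subgroup.closure_induction with
    | mem y hy =>
      rcases hy with ⟨k, hk, rfl⟩ | ⟨j, hj, -⟩
      · exact ⟨0, 2 ^ k, by norm_num, Nat.pow_lt_pow_right (by norm_num : 1 < 2) hk,
          by rw [se_zero, one_mul, AA_two_pow 11 le_rfl, if_pos hk]⟩
      · exact absurd hj (Nat.not_lt_zero j)
    | one => exact ⟨0, 0, by norm_num, by norm_num, by rw [se_zero, one_mul, AA_at_zero]⟩
    | mul y z _ _ hy hz =>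
      obtain ⟨a, v, ha, hv, rfl⟩ := hy
      obtain ⟨b, w, hb, hw, rfl⟩ := hz
      exact ⟨0, v ^^^ w, by norm_num, Nat.xor_lt_two_pow (n := 11) hv hw,
        by rw [se_zero, se_zero, se_zero, one_mul, one_mul, one_mul, AA_xor 11 le_rfl]⟩
    | inv y _ hy =>
      obtain ⟨a, v, ha, hv, rfl⟩ := hy
      exact ⟨0, v, by norm_num, hv,
        by simp only [se_zero, one_mul, inv_eq_of_mul_eq_one_left (AA_sq v)]⟩
  | succ i ih =>
    intro hi x hx
    have hi' : i < 7 := by omega
    have key : x ∈ HH i ∨ ss i * x ∈ HH i := by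
      induction hx using Subgroup.closure_induction with
      | mem y hy =>
        rcases hy with ⟨k, hk, rfl⟩ | ⟨j, hj, rfl⟩
        · exact Or.inl (tt_mem i hk)
        · rcases Nat.lt_succ_iff_lt_or_eq.mp hj with h | rfl
          · exact Or.inl (ss_mem h)
          · exact Or.inr (by rw [ss_sq hi']; exact one_mem _)
      | one => exact Or.inl (one_mem _)
      | mul y z _ _ hy hz =>
        rcases hy with hy | hy <;> rcases hz with hz | hz
        · exact Or.inl (mul_mem hy hz)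
        · refine Or.inr ?_
          rw [show ss i * (y * z) = (ss i * y * ss i) * ((ss i)⁻¹ * z) by group, ss_inv hi']
          exact mul_mem (conj_mem hi' hy) hz
        · refine Or.inr ?_
          rw [← mul_assoc]
          exact mul_mem hy hz
        · refine Or.inl ?_
          rw [show y * z = ((ss i)⁻¹ * (ss i * y) * (ss i)⁻¹) * (ss i * z) by group, ss_inv hi']
          exact mul_mem (conj_mem hi' hy) hz
      | inv y _ hy =>
        rcases hy with hy | hy
        · exact Or.inl (inv_mem hy)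
        · refine Or.inr ?_
          rw [show ss i * y⁻¹ = ss i * (ss i * y)⁻¹ * ss i by group]
          exact conj_mem hi' (inv_mem hy)
    rcases key with h | h
    · obtain ⟨e, v, he, hv, rfl⟩ := ih (by omega) x h
      exact ⟨e, v, by rw [pow_succ]; omega, hv, by rw [se_succ_low he]⟩
    · obtain ⟨e, v, he, hv, hx'⟩ := ih (by omega) _ h
      refine ⟨2 ^ i + e, v, by rw [pow_succ]; omega, hv, ?_⟩
      rw [se_succ_high he, mul_assoc, ← hx', ← mul_assoc, ss_sq hi', one_mul]

/-- The subgroup of order 2^18. -/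
noncomputable def T0 : Subgroup GG := HH 7

theorem T0_unique {e v f w : Nat} (he : e < 128) (hv : v < 2048) (hf : f < 128) (hw : w < 2048)
    (h : se 7 e * AA 11 v = se 7 f * AA 11 w) : e = f ∧ v = w := by
  have hef : e = f := by
    refine Eg_inj he hf fun k hk => AA_inj (Eg_lt e k) (Eg_lt f k) ?_
    rw [← acts_nf le_rfl he hv k hk, ← acts_nf le_rfl hf hw k hk, h]
  subst hef
  exact ⟨rfl, AA_inj hv hw (mul_left_cancel h)⟩

theorem card_T0 : Nat.card T0 = 2 ^ 18 := by
  let f : Fin 128 × Fin 2048 → T0 := fun p =>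
    ⟨se 7 p.1 * AA 11 p.2, mul_mem (se_mem 7 p.1) (AA_mem 7 11 le_rfl p.2)⟩
  have hf : Function.Bijective f := by
    refine ⟨fun p q h => ?_, fun x => ?_⟩
    · obtain ⟨h1, h2⟩ := T0_unique p.1.2 p.2.2 q.1.2 q.2.2 (congrArg Subtype.val h)
      exact Prod.ext (Fin.ext h1) (Fin.ext h2)
    · obtain ⟨e, v, he, hv, hx⟩ := nf_of_mem 7 le_rfl x.1 x.2
      exact ⟨(⟨e, he⟩, ⟨v, hv⟩), Subtype.ext hx.symm⟩
  rw [← Nat.card_congr (Equiv.ofBijective f hf), Nat.card_eq_fintype_card, Fintype.card_prod, Fintype.card_fin,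
    Fintype.card_fin]
  norm_num

/-- The elementary abelian subgroup of order 2^11. -/
noncomputable def A0 : Subgroup GG where
  carrier := {x | ∃ v, v < 2048 ∧ x = AA 11 v}
  one_mem' := ⟨0, by norm_num, (AA_at_zero 11).symm⟩
  mul_mem' := by
    rintro _ _ ⟨v, hv, rfl⟩ ⟨w, hw, rfl⟩
    exact ⟨v ^^^ w, Nat.xor_lt_two_pow (n := 11) hv hw, (AA_xor 11 le_rfl v w).symm⟩
  inv_mem' := by
    rintro _ ⟨v, hv, rfl⟩
    exact ⟨v, hv, inv_eq_of_mul_eq_one_left (AA_sq v)⟩

theorem card_A0 : Nat.card A0 = 2 ^ 11 := by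
  let f : Fin 2048 → A0 := fun v => ⟨AA 11 v, ⟨v, v.2, rfl⟩⟩
  have hf : Function.Bijective f :=
    ⟨fun p q h => Fin.ext (AA_inj p.2 q.2 (congrArg Subtype.val h)),
      fun ⟨x, v, hv, hx⟩ => ⟨⟨v, hv⟩, Subtype.ext hx.symm⟩⟩
  rw [← Nat.card_congr (Equiv.ofBijective f hf), Nat.card_eq_fintype_card, Fintype.card_fin]
  norm_num

theorem A0_le : A0 ≤ T0 := by
  rintro _ ⟨v, -, rfl⟩
  exact AA_mem 7 11 le_rfl v

theorem A0_normal : (A0.subgroupOf T0).Normal := by
  refine ⟨fun x hx g => ?_⟩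
  obtain ⟨v, hv, hxe⟩ := Subgroup.mem_subgroupOf.mp hx
  obtain ⟨e, w, he, hw, hge⟩ := nf_of_mem 7 le_rfl g.1 g.2
  refine Subgroup.mem_subgroupOf.mpr ⟨lin 11 (Eg e) v, lin_lt (fun i _ => Eg_lt e i) v, ?_⟩
  show (g : GG) * (x : GG) * (g : GG)⁻¹ = _
  rw [hxe, hge]
  exact (acts_nf le_rfl he hw).apply 11 le_rfl v

theorem A0_elementary : Cfsg.IsElementaryAbelian 2 A0 := by
  refine ⟨⟨⟨fun a b => Subtype.ext ?_⟩⟩, ?_⟩
  · obtain ⟨v, -, hv⟩ := a.2
    obtain ⟨w, -, hw⟩ := b.2
    show (a : GG) * (b : GG) = (b : GG) * (a : GG)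
    rw [hv, hw, ← AA_xor 11 le_rfl, ← AA_xor 11 le_rfl, Nat.xor_comm]
  · rintro _ ⟨v, -, rfl⟩
    rw [pow_two, AA_sq]

theorem eg_zero' {k : Nat} (hk : k < 11) : Eg 0 k = 2 ^ k :=
  Nat.eq_of_beq_eq_true (List.all_eq_true.mp eg_zero k (List.mem_range.mpr hk))

/-- The vectors fixed by all representatives in a set. -/
noncomputable def fixed (B : Finset Nat) : Finset Nat :=
  (Finset.range 2048).filter fun v => ∀ b ∈ B, lin 11 (Eg b) v = v

theorem compl_xor (us : List Nat) (i j : Nat) : compl us (i ^^^ j) = compl us i ^^^ compl us j := lin_xor _ _ _ _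

theorem compl_lt {us : List Nat} (h : us.all (fun u => Nat.blt u 2048) = true) (j : Nat) : compl us j < 2048 := by
  refine lin_lt (fun i hi => ?_) j
  rw [List.getD_eq_getElem _ _ hi]
  exact Nat.blt_eq.mp (List.all_eq_true.mp h _ (List.getElem_mem hi))

theorem fixed_card {B : Finset Nat} {us : List Nat} {n : Nat} (hus : us.all (fun u => Nat.blt u 2048) = true)
    (hmove : ∀ j, j < 2 ^ n → j ≠ 0 → ∃ b ∈ B, lin 11 (Eg b) (compl us j) ≠ compl us j) :
    2 ^ n * (fixed B).card ≤ 2048 := by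
  have h : (((Finset.range (2 ^ n)) ×ˢ fixed B).image fun p => compl us p.1 ^^^ p.2) ⊆ Finset.range 2048 := by
    intro x hx
    obtain ⟨⟨j, v⟩, hjv, rfl⟩ := Finset.mem_image.mp hx
    obtain ⟨hj, hv⟩ := Finset.mem_product.mp hjv
    exact Finset.mem_range.mpr (Nat.xor_lt_two_pow (n := 11) (compl_lt hus j)
      (Finset.mem_range.mp (Finset.mem_filter.mp hv).1))
  have := Finset.card_le_card h
  rw [Finset.card_image_of_injOn, Finset.card_product, Finset.card_range, Finset.card_range] at this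
  · exact this
  rintro ⟨i, v⟩ hiv ⟨j, w⟩ hjw e
  obtain ⟨hi, hv⟩ := Finset.mem_product.mp hiv
  obtain ⟨hj, hw⟩ := Finset.mem_product.mp hjw
  have e' : compl us (i ^^^ j) = v ^^^ w := by
    apply Nat.xor_eq_zero_iff.mp
    have e0 := Nat.xor_eq_zero_iff.mpr e
    rw [compl_xor, ← e0]
    simp [Nat.xor_assoc, Nat.xor_comm, Nat.xor_left_comm]
  have hij : i ^^^ j = 0 := by
    by_contra hne
    obtain ⟨b, hb, hbm⟩ := hmove _ (Nat.xor_lt_two_pow (Finset.mem_range.mp hi) (Finset.mem_range.mp hj)) hne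
    apply hbm
    rw [e', lin_xor, (Finset.mem_filter.mp hv).2 b hb, (Finset.mem_filter.mp hw).2 b hb]
  obtain rfl := Nat.xor_eq_zero_iff.mp hij
  have e2 : v = w := by simpa [Nat.xor_right_inj] using e
  rw [e2]

theorem tab_zero : (invL.all fun e => Nat.beq (tab 0 e) e) = true := by decide +kernel

/-- The five step search finds no elementary abelian group of order 32. -/
theorem go_false : ∀ r lo (span : List Nat) (B : Finset Nat), go r lo span = true →
    (∀ e ∈ B, e ∈ invL) → (∀ e ∈ B, ∀ f ∈ B, Co e f = true ∧ tab e f ∈ B) →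
    0 ∈ span → (∀ e ∈ B, e ≤ lo → e ∈ span) → (∀ x ∈ span, x ∈ B) → span.length * 2 ^ r ≤ B.card → False := by
  intro r
  induction r with
  | zero => intro lo span B h; exact absurd h (by simp [go])
  | succ r ih =>
    intro lo span B h hB hcl h0 hlo hspan hcard
    rw [pow_succ] at hcard
    have hne : (B \ span.toFinset).Nonempty := by
      rw [Finset.nonempty_iff_ne_empty]
      intro he
      have h1 := Finset.card_le_card (Finset.sdiff_eq_empty_iff_subset.mp he)
      have h2 := List.toFinset_card_le span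
      have h3 : 1 ≤ span.length := List.length_pos_of_mem h0
      have h4 : span.length * 1 ≤ span.length * 2 ^ r := Nat.mul_le_mul_left _ Nat.one_le_two_pow
      have h5 : span.length * (2 ^ r * 2) = span.length * 2 ^ r * 2 := by ring
      omega
    let e := (B \ span.toFinset).min' hne
    have he := Finset.min'_mem _ hne
    rw [Finset.mem_sdiff, List.mem_toFinset] at he
    have hlt : lo < e := by
      by_contra hc
      exact he.2 (hlo _ he.1 (Nat.le_of_not_lt hc))
    unfold go at h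
    have h2 := List.all_eq_true.mp h e (hB e he.1)
    rw [Nat.blt_eq.mpr hlt, cond_true] at h2
    have hnc : span.contains e = false := by
      rw [Bool.eq_false_iff]
      exact fun hc => he.2 (List.contains_iff_mem.mp hc)
    have hco : span.all (fun x => Co x e) = true :=
      List.all_eq_true.mpr fun x hx => (hcl x (hspan x hx) e he.1).1
    rw [hnc, cond_false, hco, cond_true] at h2
    refine ih e _ B h2 hB hcl (List.mem_append_left _ h0) (fun b hb hbe => ?_) (fun x hx => ?_) ?_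
    · rw [List.mem_append]
      by_contra hc
      push Not at hc
      have h4 : e ≤ b := Finset.min'_le _ b (Finset.mem_sdiff.mpr ⟨hb, fun h5 => hc.1 (List.mem_toFinset.mp h5)⟩)
      obtain rfl : b = e := le_antisymm hbe h4
      exact hc.2 (List.mem_map.mpr ⟨0, h0,
        Nat.eq_of_beq_eq_true (List.all_eq_true.mp tab_zero _ (hB _ he.1))⟩)
    · rcases List.mem_append.mp hx with hx | hx
      · exact hspan x hx
      · obtain ⟨y, hy, rfl⟩ := List.mem_map.mp hx
        exact (hcl y (hspan y hy) e he.1).2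
    · rw [List.length_append, List.length_map]
      calc (span.length + span.length) * 2 ^ r = span.length * (2 ^ r * 2) := by ring
        _ ≤ _ := hcard

theorem acts_unique {x : GG} {f g : Nat → Nat} (hf : Acts x f) (hg : Acts x g) {k : Nat} (hk : k < 11)
    (h1 : f k < 2048) (h2 : g k < 2048) : f k = g k :=
  AA_inj h1 h2 ((hf k hk).symm.trans (hg k hk))

/-- The bound in the explicit Sylow subgroup. -/
theorem bound (A : Subgroup GG) (hA : A ≤ T0) (he : Cfsg.IsElementaryAbelian 2 A) :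
    Nat.card A < 2 ^ 11 ∨ A ≤ A0 := by
  classical
  let B : Finset Nat := (Finset.range 128).filter fun e => ∃ v, v < 2048 ∧ se 7 e * AA 11 v ∈ A
  have hBx : ∀ e ∈ B, e < 128 ∧ ∃ x ∈ A, Acts x (Eg e) := by
    intro e heB
    obtain ⟨h1, v, hv, hm⟩ := Finset.mem_filter.mp heB
    exact ⟨Finset.mem_range.mp h1, _, hm, acts_nf le_rfl (Finset.mem_range.mp h1) hv⟩
  have hmemB : ∀ x ∈ A, ∃ e v, e ∈ B ∧ v < 2048 ∧ x = se 7 e * AA 11 v := by
    intro x hx
    obtain ⟨e, v, he', hv, rfl⟩ := nf_of_mem 7 le_rfl x (hA hx)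
    exact ⟨e, v, Finset.mem_filter.mpr ⟨Finset.mem_range.mpr he', v, hv, hx⟩, hv, rfl⟩
  have hcomm : ∀ x ∈ A, ∀ y ∈ A, x * y = y * x := fun x hx y hy =>
    congrArg Subtype.val (he.1.is_comm.comm (⟨x, hx⟩ : A) ⟨y, hy⟩)
  have hsq : ∀ x ∈ A, x * x = 1 := fun x hx => by rw [← pow_two]; exact he.2 x hx
  have hinv : ∀ e ∈ B, e ∈ invL := by
    intro e heB
    obtain ⟨he1, x, hx, hxe⟩ := hBx e heB
    have h := List.all_eq_true.mp invL_complete e (List.mem_range.mpr he1)
    have hI : isI e = true := by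
      refine List.all_eq_true.mpr fun k hk => Nat.beq_eq.mpr ?_
      have h2 := hxe.comp hxe
      rw [hsq x hx] at h2
      exact acts_unique h2 acts_one (List.mem_range.mp hk) (lin_lt (fun i _ => Eg_lt e i) _)
        (Nat.pow_lt_pow_right (by norm_num : 1 < 2) (List.mem_range.mp hk))
    rw [hI, cond_true] at h
    exact List.contains_iff_mem.mp h
  have hcl : ∀ e ∈ B, ∀ f ∈ B, Co e f = true ∧ tab e f ∈ B := by
    intro e heB f hfB
    obtain ⟨he1, x, hx, hxe⟩ := hBx e heB
    obtain ⟨hf1, y, hy, hyf⟩ := hBx f hfB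
    have hC : commE e f = true := by
      refine List.all_eq_true.mpr fun k hk => Nat.beq_eq.mpr ?_
      have h1 := hxe.comp hyf
      have h2 := hyf.comp hxe
      rw [← hcomm x hx y hy] at h2
      exact acts_unique h1 h2 (List.mem_range.mp hk) (lin_lt (fun i _ => Eg_lt e i) _)
        (lin_lt (fun i _ => Eg_lt f i) _)
    have h := List.all_eq_true.mp (List.all_eq_true.mp com_complete e (hinv e heB)) f (hinv f hfB)
    rw [hC, cond_true, Bool.and_eq_true] at h
    refine ⟨h.1, ?_⟩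
    obtain ⟨g, w, hgB, hw, hgx⟩ := hmemB _ (mul_mem hx hy)
    have hg1 : g < 128 := Finset.mem_range.mp (Finset.mem_filter.mp hgB).1
    have hg2 := acts_nf le_rfl hg1 hw
    rw [← hgx] at hg2
    obtain rfl : tab e f = g := by
      refine Eg_inj (Nat.lt_succ_of_le Nat.and_le_right) hg1 fun k hk => ?_
      rw [Nat.eq_of_beq_eq_true (List.all_eq_true.mp h.2 k (List.mem_range.mpr hk))]
      exact acts_unique (hxe.comp hyf) hg2 hk (lin_lt (fun i _ => Eg_lt e i) _) (Eg_lt g k)
    exact hgB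
  have h0 : 0 ∈ B := Finset.mem_filter.mpr ⟨Finset.mem_range.mpr (by norm_num), 0, by norm_num, by
    rw [AA_at_zero, mul_one, show se 7 0 = 1 by simp [se_succ, se_zero]]; exact one_mem _⟩
  by_cases htriv : ∀ e ∈ B, e = 0
  · right
    intro x hx
    obtain ⟨e, v, heB, hv, rfl⟩ := hmemB x hx
    rw [htriv e heB, show se 7 0 = 1 by simp [se_succ, se_zero], one_mul]
    exact ⟨v, hv, rfl⟩
  left
  push Not at htriv
  obtain ⟨a, haB, ha0⟩ := htriv
  -- the group is covered by its image and the fixed vectors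
  have hle : Nat.card A ≤ B.card * (fixed B).card := by
    have hc : ∀ e : B, ∃ v, v < 2048 ∧ se 7 e * AA 11 v ∈ A := fun e => (Finset.mem_filter.mp e.2).2
    choose c hcl' hcA using hc
    have hsur : ∀ x : A, ∃ p : B × fixed B, (x : GG) = se 7 p.1 * AA 11 (c p.1) * AA 11 p.2 := by
      intro x
      obtain ⟨e, v, heB, hv, hxe⟩ := hmemB x x.2
      refine ⟨(⟨e, heB⟩, ⟨c ⟨e, heB⟩ ^^^ v, Finset.mem_filter.mpr
        ⟨Finset.mem_range.mpr (Nat.xor_lt_two_pow (n := 11) (hcl' _) hv), fun b hb => ?_⟩⟩), ?_⟩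
      · have hm : AA 11 (c ⟨e, heB⟩ ^^^ v) ∈ A := by
          have h1 := mul_mem (inv_mem (hcA ⟨e, heB⟩)) x.2
          rw [hxe, show (se 7 e * AA 11 (c ⟨e, heB⟩))⁻¹ * (se 7 e * AA 11 v) = (AA 11 (c ⟨e, heB⟩))⁻¹ * AA 11 v by
            group, inv_eq_of_mul_eq_one_left (AA_sq _), ← AA_xor 11 le_rfl] at h1
          exact h1
        obtain ⟨hb1, y, hy, hyb⟩ := hBx b hb
        refine AA_inj (lin_lt (fun i _ => Eg_lt b i) _) (Nat.xor_lt_two_pow (n := 11) (hcl' _) hv) ?_
        rw [← hyb.apply 11 le_rfl, hcomm y hy _ hm, mul_inv_cancel_right]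
      · refine hxe.trans ?_
        show se 7 e * AA 11 v = se 7 e * AA 11 (c ⟨e, heB⟩) * AA 11 (c ⟨e, heB⟩ ^^^ v)
        rw [mul_assoc, ← AA_xor 11 le_rfl, ← Nat.xor_assoc, Nat.xor_self, Nat.zero_xor]
    choose φ hφ using hsur
    refine (Nat.card_le_card_of_injective φ fun x y h => Subtype.ext ?_).trans ?_
    · rw [hφ x, hφ y, h]
    · rw [Nat.card_prod, Nat.card_eq_fintype_card, Nat.card_eq_fintype_card, Fintype.card_coe, Fintype.card_coe]
  by_cases hpair : ∀ e ∈ B, e = 0 ∨ e = a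
  · -- one involution
    have hcard : B.card ≤ 2 := (Finset.card_le_card (t := {0, a}) fun e he' => by
      rcases hpair e he' with h | h <;> simp [h]).trans Finset.card_le_two
    have h := List.all_eq_true.mp one_complete a (hinv a haB)
    simp only [Bool.or_eq_true, Nat.beq_eq, List.any_eq_true] at h
    obtain ⟨u, hu, hua⟩ := h.resolve_left ha0
    have h2 := List.all_eq_true.mp one_ok u hu
    simp only [Bool.and_eq_true, Nat.beq_eq] at h2
    have h3 := fixed_card (B := B) (n := 4) h2.1.2 fun j hj hj0 => ⟨a, haB, fun e => ?_⟩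
    · norm_num at h3 ⊢
      calc Nat.card A ≤ B.card * (fixed B).card := hle
        _ ≤ 2 * 128 := Nat.mul_le_mul hcard (by omega)
        _ < _ := by norm_num
    · have h4 := List.all_eq_true.mp h2.2 j (List.mem_range.mpr (by simpa using hj))
      simp only [Bool.or_eq_true, Nat.beq_eq, Bool.not_eq_true'] at h4
      rcases h4 with h4 | h4
      · exact hj0 h4
      · rw [hua] at h4
        exact Bool.false_ne_true (h4.symm.trans (Nat.beq_eq.mpr e))
  · push Not at hpair
    obtain ⟨b, hbB, hb0, hba⟩ := hpair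
    have hcard : B.card < 32 := by
      by_contra hc
      exact go_false 5 0 [0] B no_five hinv hcl (by simp) (fun e _ h => by simp [Nat.le_zero.mp h])
        (fun x hx => by rw [List.mem_singleton] at hx; exact hx ▸ h0) (by simpa using Nat.le_of_not_lt hc)
    obtain ⟨e, f, heB, hfB, he0, hef⟩ : ∃ e f, e ∈ B ∧ f ∈ B ∧ 0 < e ∧ e < f := by
      rcases Nat.lt_or_gt_of_ne hba with h | h
      · exact ⟨b, a, hbB, haB, Nat.pos_of_ne_zero hb0, h⟩
      · exact ⟨a, b, haB, hbB, Nat.pos_of_ne_zero ha0, h⟩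
    have h := List.all_eq_true.mp (List.all_eq_true.mp two_complete e (hinv e heB)) f (hinv f hfB)
    rw [Nat.blt_eq.mpr he0, Nat.blt_eq.mpr hef, (hcl e heB f hfB).1] at h
    simp only [Bool.and_self, cond_true, List.any_eq_true, Bool.and_eq_true, Nat.beq_eq] at h
    obtain ⟨u, hu, hue, huf⟩ := h
    have h2 := List.all_eq_true.mp two_ok u hu
    simp only [Bool.and_eq_true, Nat.beq_eq] at h2
    have h3 := fixed_card (B := B) (n := 5) h2.1.2 fun j hj hj0 => ?_
    · norm_num at h3 ⊢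
      calc Nat.card A ≤ B.card * (fixed B).card := hle
        _ ≤ 31 * 64 := Nat.mul_le_mul (by omega) (by omega)
        _ < _ := by norm_num
    · have h4 := List.all_eq_true.mp h2.2 j (List.mem_range.mpr (by simpa using hj))
      simp only [Bool.or_eq_true, Nat.beq_eq, Bool.not_eq_true', Bool.and_eq_false_iff] at h4
      rcases h4 with h4 | h4 | h4
      · exact absurd h4 hj0
      · exact ⟨e, heB, fun e' => Bool.false_ne_true (h4.symm.trans (Nat.beq_eq.mpr (hue ▸ e')))⟩
      · exact ⟨f, hfB, fun e' => Bool.false_ne_true (h4.symm.trans (Nat.beq_eq.mpr (huf ▸ e')))⟩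

/-- The property of a subgroup to be tested. -/
theorem main (T : Sylow 2 GG) :
    (∀ A : Subgroup GG, A ≤ T → (A.subgroupOf T).Normal → Cfsg.IsElementaryAbelian 2 A → Nat.card A ≤ 2 ^ 11) ∧
    ∃! A : Subgroup GG, A ≤ T ∧ (A.subgroupOf T).Normal ∧ Cfsg.IsElementaryAbelian 2 A ∧ Nat.card A = 2 ^ 11 := by
  have hG : Nat.card GG = 4089470473293004800 := Cfsg.Agent.S1697.result.2
  have : Finite GG := Nat.finite_of_card_ne_zero (by rw [hG]; norm_num)
  have : Fact (Nat.Prime 2) := ⟨Nat.prime_two⟩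
  have hfac : (Nat.card GG).factorization 2 = 18 := by
    rw [hG, show (4089470473293004800 : ℕ) = 2 ^ 18 * 15600091832325 by norm_num,
      Nat.factorization_mul (by norm_num) (by norm_num), Finsupp.add_apply, Nat.prime_two.factorization_pow,
      Finsupp.single_eq_same, Nat.factorization_eq_zero_of_not_dvd (by norm_num), add_zero]
  let P : Sylow 2 GG := Sylow.ofCard T0 (by rw [card_T0, hfac])
  obtain ⟨g, hg⟩ := MulAction.exists_smul_eq GG P T
  let c : GG →* GG := (MulAut.conj g).toMonoidHom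
  have hc : Function.Injective c := (MulAut.conj g).injective
  have hT : (T : Subgroup GG) = T0.map c := by
    rw [← hg]
    rfl
  have hel : ∀ A : Subgroup GG, Cfsg.IsElementaryAbelian 2 (A.map c) ↔ Cfsg.IsElementaryAbelian 2 A := by
    intro A
    constructor
    · rintro ⟨h1, h2⟩
      refine ⟨⟨⟨fun a b => Subtype.ext (hc ?_)⟩⟩, fun a ha => hc ?_⟩
      · rw [Subgroup.coe_mul, Subgroup.coe_mul, map_mul, map_mul]
        exact congrArg Subtype.val (h1.is_comm.comm (⟨_, Subgroup.mem_map_of_mem c a.2⟩ : A.map c)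
          ⟨_, Subgroup.mem_map_of_mem c b.2⟩)
      · rw [map_pow, map_one, h2 _ (Subgroup.mem_map_of_mem c ha)]
    · rintro ⟨h1, h2⟩
      refine ⟨⟨⟨?_⟩⟩, ?_⟩
      · rintro ⟨_, a, ha, rfl⟩ ⟨_, b, hb, rfl⟩
        refine Subtype.ext ?_
        show c a * c b = c b * c a
        rw [← map_mul, ← map_mul, show a * b = b * a from
          congrArg Subtype.val (h1.is_comm.comm (⟨a, ha⟩ : A) ⟨b, hb⟩)]
      · rintro _ ⟨a, ha, rfl⟩
        rw [← map_pow, h2 a ha, map_one]
  have hpre : ∀ A : Subgroup GG, A ≤ T → ∃ A', A' ≤ T0 ∧ A = A'.map c := by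
    intro A hA
    refine ⟨A.comap c, fun x hx => ?_, (Subgroup.map_comap_eq_self_of_surjective (MulAut.conj g).surjective A).symm⟩
    have h := hA hx
    rw [hT] at h
    obtain ⟨y, hy, hxy⟩ := h
    exact hc hxy ▸ hy
  have hcard : ∀ A : Subgroup GG, Nat.card (A.map c) = Nat.card A := fun A =>
    (Nat.card_congr (A.equivMapOfInjective c hc).toEquiv).symm
  have hkey : ∀ A : Subgroup GG, A ≤ T → Cfsg.IsElementaryAbelian 2 A →
      Nat.card A ≤ 2 ^ 11 ∧ (Nat.card A = 2 ^ 11 → A = A0.map c) := by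
    intro A hA he
    obtain ⟨A', hA', rfl⟩ := hpre A hA
    rw [hcard]
    rcases bound A' hA' ((hel A').mp he) with h | h
    · exact ⟨h.le, fun e => absurd e h.ne⟩
    · refine ⟨card_A0 ▸ Subgroup.card_le_of_le h, fun e => ?_⟩
      rw [Subgroup.eq_of_le_of_card_ge h (by rw [card_A0, e])]
  refine ⟨fun A hA _ he => (hkey A hA he).1, A0.map c, ⟨?_, ?_, (hel A0).mpr A0_elementary, (hcard A0).trans card_A0⟩,
    fun A hA => (hkey A hA.1 hA.2.2.1).2 hA.2.2.2⟩
  · rw [hT]
    exact Subgroup.map_mono A0_le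
  · refine ⟨fun x hx y => ?_⟩
    obtain ⟨a, ha, hax⟩ := Subgroup.mem_subgroupOf.mp hx
    have hy : (y : GG) ∈ T0.map c := hT ▸ y.2
    obtain ⟨t, ht, hty⟩ := hy
    refine Subgroup.mem_subgroupOf.mpr ⟨t * a * t⁻¹,
      Subgroup.mem_subgroupOf.mp (A0_normal.conj_mem ⟨a, A0_le ha⟩ (Subgroup.mem_subgroupOf.mpr ha) ⟨t, ht⟩), ?_⟩
    rw [map_mul, map_mul, map_inv, hax, hty]
    rfl

end CfsgLib.SporadicB.Fi23Sylow
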